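import Mathlib
import Cfsg.Agent.H328.Gow.RowPsu
import Cfsg.Agent.H993.OC.Row
import Cfsg.Agent.H464.ExtQU
import Cfsg.Agent.H732.ExtPSL.Twist_m3
import Cfsg.Agent.H161.PalForm
import Cfsg.Agent.Prune
set_option linter.all false
prune_inst 0x7f00000000000000000000000000000000000000000000000000000000000000000000000000000000000000000000000000000000000000000000000000000000000000000000000000000000000000003fffffffffffffffffffffffffffbeffbdffffffff
open scoped Cfsg.Agent.FastGrp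

-- part: H476/OC/Arith
section
/-!
# S4891, row `PSU_3` in defining characteristic: the linear character (helper476)

`exists_lam` : a character `lam` of `Kˣ`, `|K| = q²`, of order `(q₀² - 1) / gcd(3, q₀ + 1)`.
-/

set_option autoImplicit false

namespace Cfsg.Agent.H476.OC

theorem exists_chi (K : Type*) [Field K] [Finite K] : ∃ f : Kˣ →* ℂˣ, Function.Injective f := by
  classical
  have h0 : NeZero (Nat.card Kˣ) := ⟨Nat.card_pos.ne'⟩
  let e : Kˣ ≃* rootsOfUnity (Nat.card Kˣ) ℂ :=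
    mulEquivOfCyclicCardEq (Complex.card_rootsOfUnity _).symm
  exact ⟨(rootsOfUnity (Nat.card Kˣ) ℂ).subtype.comp e.toMonoidHom, Subtype.val_injective.comp e.injective⟩

/-- `a ^ (2 j + 1) ≡ a (mod a² - 1)` -/
theorem dvd_sub_pow (a j : ℕ) : a ^ 2 - 1 ∣ a ^ (2 * j + 1) - a := by
  have h1 : a ^ 2 - 1 ∣ (a ^ 2) ^ j - 1 := by
    have := Nat.sub_dvd_pow_sub_pow (a ^ 2) 1 j
    rwa [one_pow] at this
  have h2 : a ^ (2 * j + 1) - a = ((a ^ 2) ^ j - 1) * a := by
    rw [Nat.sub_mul, one_mul, ← pow_mul, ← pow_succ]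
  rw [h2]
  exact Dvd.dvd.mul_right h1 a

/-- the numbers of the row -/
theorem exists_num {p f q : ℕ} (hp : p.Prime) (hp2 : p ≠ 2) (hf : f ≠ 0) (hq : q = p ^ f) :
    ∃ n m e : ℕ, n ≠ 0 ∧ ¬ p ∣ n ∧ ¬ p ∣ m ∧ n * e = q ^ 2 - 1 ∧ ¬ n ∣ q + 1 ∧ (3 ∣ q + 1 → 3 ∣ e) ∧
      ∀ i : ℕ, n ∣ p ^ (i * m) - 1 := by
  obtain ⟨k, f0, hf0, hf'⟩ := Nat.exists_eq_pow_mul_and_not_dvd hf p hp.ne_one
  have hodd : p % 2 = 1 := Nat.odd_iff.1 (hp.odd_of_ne_two hp2)
  have hf00 : f0 ≠ 0 := by
    rintro rfl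
    exact hf0 (dvd_zero p)
  obtain ⟨a, ha⟩ : ∃ a, a = p ^ f0 := ⟨_, rfl⟩
  have hp3 : 3 ≤ p := by have := hp.two_le; omega
  have ha3 : 3 ≤ a := by
    rw [ha]
    calc 3 ≤ p ^ 1 := by rwa [pow_one]
      _ ≤ p ^ f0 := Nat.pow_le_pow_right (by omega) (by omega)
  have haodd : a % 2 = 1 := by
    rw [ha]
    exact Nat.odd_iff.1 (Odd.pow (Nat.odd_iff.2 hodd))
  have hpa : p ∣ a := by
    rw [ha]
    exact dvd_pow_self p hf00
  obtain ⟨j, hj⟩ : ∃ j, p ^ k = 2 * j + 1 := by
    have : Odd (p ^ k) := Odd.pow (Nat.odd_iff.2 hodd)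
    exact this
  have hqa : q = a ^ (2 * j + 1) := by
    rw [hq, hf', ha, ← pow_mul, ← hj, mul_comm]
  -- the modulus
  have hN1 : a ^ 2 - 1 = (a + 1) * (a - 1) := by
    have := Nat.sq_sub_sq a 1
    rwa [one_pow] at this
  have ha2 : 1 ≤ a ^ 2 := Nat.one_le_pow _ _ (by omega)
  have hN0 : a ^ 2 - 1 ≠ 0 := by
    have : 3 ^ 2 ≤ a ^ 2 := Nat.pow_le_pow_left ha3 2
    omega
  obtain ⟨g, hg, hg0, hg3⟩ : ∃ g, g ∣ a ^ 2 - 1 ∧ (g = 1 ∨ g = 3) ∧ (3 ∣ a + 1 → g = 3) := by
    by_cases h3 : 3 ∣ a + 1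
    · exact ⟨3, by rw [hN1]; exact Dvd.dvd.mul_right h3 _, Or.inr rfl, fun _ => rfl⟩
    · exact ⟨1, one_dvd _, Or.inl rfl, fun h => absurd h h3⟩
  obtain ⟨n, hn⟩ := hg
  have hnd : n ∣ a ^ 2 - 1 := ⟨g, by rw [hn, mul_comm]⟩
  have hn0 : n ≠ 0 := by
    rintro rfl
    rw [mul_zero] at hn
    exact hN0 hn
  have hq2 : a ^ 2 - 1 ∣ q ^ 2 - 1 := by
    have h1 := Nat.sub_dvd_pow_sub_pow (a ^ 2) 1 (2 * j + 1)
    rw [one_pow, ← pow_mul, mul_comm 2, pow_mul, ← hqa] at h1
    exact h1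
  obtain ⟨e', he'⟩ := hq2
  refine ⟨n, 2 * f0, g * e', hn0, ?_, ?_, ?_, ?_, ?_, ?_⟩
  · intro h
    have h1 : p ∣ a ^ 2 - 1 := h.trans hnd
    have h2 : p ∣ a ^ 2 := hpa.trans (dvd_pow_self a two_ne_zero)
    have h3 : p ∣ 1 := by
      have := Nat.dvd_sub h2 h1
      rwa [Nat.sub_sub_self ha2] at this
    exact hp.one_lt.ne' (Nat.dvd_one.1 h3)
  · intro h
    rcases (hp.dvd_mul).1 h with h | h
    · exact hp2 ((Nat.prime_dvd_prime_iff_eq hp Nat.prime_two).1 h)
    · exact hf0 h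
  · rw [he', hn]
    ring
  · intro h
    have h1 : n ∣ q - a := by
      rw [hqa]
      exact hnd.trans (dvd_sub_pow a j)
    have haq : a ≤ q := by
      rw [hqa]
      exact Nat.le_self_pow (by omega) a
    have h2 : n ∣ a + 1 := by
      have h3 : q + 1 = (q - a) + (a + 1) := by omega
      rw [h3] at h
      exact (Nat.dvd_add_right h1).1 h
    obtain ⟨c, hc⟩ := h2
    have h3 : g * n = n * (c * (a - 1)) := by
      rw [← hn, hN1, hc]
      ring
    have h4 : g = c * (a - 1) := by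
      have := Nat.eq_of_mul_eq_mul_left (Nat.pos_of_ne_zero hn0) ((mul_comm n g).trans h3)
      exact this
    have h5 : 2 ∣ g := by
      rw [h4]
      exact Dvd.dvd.mul_left (by omega) c
    omega
  · intro h
    have h1 : g = 3 := by
      apply hg3
      have h2 : a % 3 = 0 ∨ a % 3 = 1 ∨ a % 3 = 2 := by omega
      have h3 : q % 3 = (a % 3) ^ (2 * j + 1) % 3 := by rw [hqa, Nat.pow_mod]
      rcases h2 with h2 | h2 | h2
      · rw [h2, zero_pow (by omega)] at h3
        omega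
      · rw [h2, one_pow] at h3
        omega
      · omega
    rw [h1]
    exact Dvd.intro e' rfl
  · intro i
    have h1 : p ^ (i * (2 * f0)) = (a ^ 2) ^ i := by
      rw [ha, ← pow_mul, ← pow_mul]
      congr 1
      ring
    rw [h1]
    have := Nat.sub_dvd_pow_sub_pow (a ^ 2) 1 i
    rw [one_pow] at this
    exact hnd.trans this

/-- **the linear character** -/
theorem exists_lam (K : Type*) [Field K] [Finite K] {p q : ℕ} [Fact p.Prime] [CharP K p] (hp2 : p ≠ 2)
    (hq : Nat.card K = q ^ 2) : ∃ (lam : Kˣ →* ℂˣ) (n m : ℕ), n ≠ 0 ∧ ¬ p ∣ n ∧ ¬ p ∣ m ∧ (∀ x, lam x ^ n = 1) ∧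
      (∃ t, lam t ^ (q + 1) ≠ 1) ∧ (∀ z : Kˣ, z ^ 3 = 1 → z ^ (q + 1) = 1 → lam z = 1) ∧
      ∀ (i : ℕ) (x : Kˣ), lam (x ^ p ^ (i * m)) = lam x := by
  have hp : p.Prime := Fact.out
  obtain ⟨f, hf0, hf⟩ : ∃ f, f ≠ 0 ∧ q = p ^ f := by
    have hex : ∃ s, Nat.card K = p ^ s := by
      let _ := Fintype.ofFinite K
      obtain ⟨n, -, h⟩ := FiniteField.card K p
      exact ⟨n, by rw [Nat.card_eq_fintype_card, h]⟩
    obtain ⟨t, ht⟩ := hex
    have h1 : q ∣ p ^ t := by rw [← ht, hq]; exact dvd_pow_self q two_ne_zero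
    obtain ⟨s, -, hs⟩ := (Nat.dvd_prime_pow hp).1 h1
    refine ⟨s, ?_, hs⟩
    rintro rfl
    rw [hs, pow_zero, one_pow] at hq
    have := Finite.one_lt_card (α := K)
    omega
  obtain ⟨n, m, e, hn0, hpn, hpm, hne, hnq, h3e, hi⟩ := exists_num hp hp2 hf0 hf
  obtain ⟨χ, hχ⟩ := exists_chi K
  have hcard : Nat.card Kˣ = n * e := by rw [Nat.card_units, hq, hne]
  have hn1 : ∀ x : Kˣ, (χ ^ e) x ^ n = 1 := fun x => by
    rw [MonoidHom.pow_apply, ← pow_mul, mul_comm e n, ← hcard, ← map_pow, pow_card_eq_one', map_one]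
  refine ⟨χ ^ e, n, m, hn0, hpn, hpm, hn1, ?_, fun z hz hz' => ?_, fun i x => ?_⟩
  · obtain ⟨t, ht⟩ := IsCyclic.exists_generator (α := Kˣ)
    refine ⟨t, fun h => hnq ?_⟩
    rw [MonoidHom.pow_apply, ← pow_mul, ← map_pow] at h
    have h1 : t ^ (e * (q + 1)) = 1 := hχ (by rw [h, map_one])
    have h2 : n * e ∣ e * (q + 1) := by
      rw [← hcard, ← orderOf_eq_card_of_forall_mem_zpowers ht]
      exact orderOf_dvd_of_pow_eq_one h1
    have he0 : 0 < e := by
      apply Nat.pos_of_ne_zero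
      rintro rfl
      rw [mul_zero] at hcard
      exact Nat.card_pos.ne' hcard
    rw [mul_comm n e] at h2
    exact Nat.dvd_of_mul_dvd_mul_left he0 h2
  · rw [MonoidHom.pow_apply, ← map_pow]
    by_cases h3 : 3 ∣ q + 1
    · obtain ⟨d, hd⟩ := h3e h3
      rw [hd, pow_mul, hz, one_pow, map_one]
    · have h1 : z = 1 := by
        have h2 : orderOf z ∣ 3 := orderOf_dvd_of_pow_eq_one hz
        have h4 : orderOf z ∣ q + 1 := orderOf_dvd_of_pow_eq_one hz'
        rcases (Nat.dvd_prime Nat.prime_three).1 h2 with h5 | h5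
        · exact orderOf_eq_one_iff.1 h5
        · exact absurd (h5 ▸ h4) h3
      rw [h1, one_pow, map_one]
  · obtain ⟨d, hd⟩ := hi i
    have h1 : p ^ (i * m) = n * d + 1 := by
      have : 0 < p ^ (i * m) := Nat.pow_pos hp.pos
      omega
    rw [h1, pow_succ, map_mul, map_pow, pow_mul, hn1, one_pow, one_mul]

end Cfsg.Agent.H476.OC
end

-- part: H476/OC/Three
section
/-!
# S4891, row `PSU_3` in defining characteristic: Hermitian forms in dimension three (helper476)

* `opp_of_ne` : in dimension at most three distinct singular points are opposite;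
* `exists_qref` : quasi-reflections; `exists_tor` : the full torus;
* `isIrr_three` : irreducibility of `hcf F c` for a linear character `c` with `c ≠ c ∘ ι` on the torus;
* `card_mod` : the number of singular points is `1` modulo `p`.
-/

set_option autoImplicit false
set_option linter.style.haveILetI false

open scoped ComplexConjugate
open Cfsg

namespace Cfsg.Agent.H476.OC

open Cfsg.Agent.OddOrderCharacters.Clifford Cfsg.Agent.Characters MulAction Module Cfsg.Agent.H53.HC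
  Cfsg.Agent.H477.HC Cfsg.Agent.H477.HC.CForm Cfsg.Agent.H328.Gow

universe u v

variable {K : Type u} [Field K] {V : Type v} [AddCommGroup V] [Module K V] (F : CForm K V)

/-- orthogonal singular points coincide in dimension three -/
theorem eq_of_perp [FiniteDimensional K V] (h3 : finrank K V ≤ 3) {W W' : Submodule K V} (hW : W ∈ F.Om 1)
    (hW' : W' ∈ F.Om 1) (h : W ≤ F.perp W') : W = W' := by
  by_contra hne
  have hTS := F.TS_sup hW.1 hW'.1 h
  have h0 : W ⊓ W' = ⊥ := by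
    have h1 : finrank K (W ⊓ W' : Submodule K V) < finrank K W := by
      apply Submodule.finrank_lt_finrank_of_lt
      refine lt_of_le_of_ne inf_le_left fun he => hne ?_
      apply Submodule.eq_of_le_of_finrank_eq (inf_eq_left.1 he)
      rw [hW.2, hW'.2]
    rw [hW.2] at h1
    exact Submodule.finrank_eq_zero.1 (by omega)
  have h2 : finrank K (W ⊔ W' : Submodule K V) = 2 := by
    have := Submodule.finrank_sup_add_finrank_inf_eq W W'
    rw [h0, finrank_bot, hW.2, hW'.2] at this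
    omega
  obtain ⟨U, hU, hopp⟩ := F.exists_opp (k := 2) (W := W ⊔ W') ⟨hTS, h2⟩
  have h3' : (W ⊔ W') ⊓ U = ⊥ := by
    rw [eq_bot_iff, ← hopp]
    exact inf_le_inf_left _ hU.1.le_perp
  have h4 := Submodule.finrank_sup_add_finrank_inf_eq (W ⊔ W') U
  rw [h3', finrank_bot, h2, hU.2] at h4
  have h5 := Submodule.finrank_le ((W ⊔ W') ⊔ U)
  omega

/-- **distinct singular points are opposite in dimension three** -/
theorem opp_of_ne [FiniteDimensional K V] (h3 : finrank K V ≤ 3) {W W' : Submodule K V} (hW : W ∈ F.Om 1)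
    (hW' : W' ∈ F.Om 1) (hne : W ≠ W') : W ⊓ F.perp W' = ⊥ := by
  by_contra h0
  have h1 : W ⊓ F.perp W' = W := by
    apply Submodule.eq_of_le_of_finrank_le inf_le_left
    rw [hW.2]
    by_contra hlt
    push Not at hlt
    exact h0 (Submodule.finrank_eq_zero.1 (by omega))
  exact hne (eq_of_perp F h3 hW hW' (inf_eq_left.1 h1))

/-- **quasi-reflections** -/
theorem exists_qref [FiniteDimensional K V] (hε : F.ε = 1) (hQ : ∀ v, F.Q v = F.B v v) {w : V} (hw : F.B w w ≠ 0)
    {s : Kˣ} (hs : (s : K) * F.σ s = 1) :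
    ∃ g : F.iso, (∀ v, (g : V ≃ₗ[K] V) v = v + (((s : K) - 1) * (F.B w w)⁻¹ * F.B v w) • w) ∧
      LinearMap.det ((g : V ≃ₗ[K] V) : V →ₗ[K] V) = s := by
  have hsym : ∀ u v, F.σ (F.B u v) = F.B v u := fun u v => by
    rw [F.B_symm v u, hε, one_mul]
  let φ : Dual K V := (((s : K) - 1) * (F.B w w)⁻¹) • F.lf w
  let T : V →ₗ[K] V := LinearMap.transvection φ w
  have hT : ∀ v, T v = v + (((s : K) - 1) * (F.B w w)⁻¹ * F.B v w) • w := fun v => by
    change LinearMap.transvection φ w v = _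
    rw [LinearMap.transvection.apply]
    rfl
  have hdet : LinearMap.det T = s := by
    change LinearMap.det (LinearMap.transvection φ w) = _
    rw [LinearMap.transvection.det]
    change 1 + (((s : K) - 1) * (F.B w w)⁻¹) • F.B w w = _
    rw [smul_eq_mul, mul_assoc, inv_mul_cancel₀ hw]
    ring
  have hTB : ∀ u v, F.B (T u) (T v) = F.B u v := by
    intro u v
    rw [hT, hT]
    simp only [F.B_add_left, F.B_add_right, F.B_smul_left, F.B_smul_right, map_mul, map_sub, map_one, map_inv₀, hsym]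
    field_simp
    linear_combination (F.B u w * F.B w v) * hs
  obtain ⟨g, hg⟩ := F.exists_iso T hTB fun v => by rw [hQ, hQ, hTB]
  refine ⟨g, fun v => by rw [hg, hT], ?_⟩
  rw [← hdet]
  congr 1
  ext v
  exact hg v

/-- an anisotropic vector orthogonal to a hyperbolic pair -/
theorem exists_aniso [FiniteDimensional K V] (h3 : finrank K V = 3) (hQ : ∀ v, F.Q v = F.B v v) {e f : V}
    (he : F.Sing e) (hef : F.B e f = 1) : ∃ w, F.B w w ≠ 0 ∧ F.B w e = 0 ∧ F.B w f = 0 := by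
  have hr := LinearMap.finrank_range_add_finrank_ker ((F.lf e).prod (F.lf f))
  have hr' := Submodule.finrank_le (LinearMap.range ((F.lf e).prod (F.lf f)))
  rw [Module.finrank_prod, Module.finrank_self] at hr'
  have h4 : 0 < finrank K (LinearMap.ker ((F.lf e).prod (F.lf f))) := by omega
  rw [Module.finrank_pos_iff_exists_ne_zero] at h4
  obtain ⟨⟨x, hx⟩, hx0⟩ := h4
  rw [LinearMap.mem_ker] at hx
  have hx1 : F.B x e = 0 := congrArg Prod.fst hx
  have hx2 : F.B x f = 0 := congrArg Prod.snd hx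
  have hx0' : x ≠ 0 := fun h => hx0 (Subtype.ext h)
  have he0 : e ≠ 0 := by
    rintro rfl
    rw [F.B_zero_left] at hef
    exact zero_ne_one hef
  refine ⟨x, fun hxx => ?_, hx1, hx2⟩
  have hOm : ∀ y : V, y ≠ 0 → F.B y y = 0 → (K ∙ y) ∈ F.Om 1 := by
    intro y hy hyy
    refine ⟨⟨?_, ?_⟩, finrank_span_singleton hy⟩
    · intro w hw
      obtain ⟨a, rfl⟩ := Submodule.mem_span_singleton.1 hw
      rw [F.Q_smul, hQ, hyy, mul_zero]
    · intro w hw w' hw'
      obtain ⟨a, rfl⟩ := Submodule.mem_span_singleton.1 hw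
      obtain ⟨b, rfl⟩ := Submodule.mem_span_singleton.1 hw'
      rw [F.B_smul_left, F.B_smul_right, hyy, mul_zero, mul_zero]
  have h5 := eq_of_perp F h3.le (hOm x hx0' hxx) (hOm e he0 he.2) (by
    intro y hy w hw
    obtain ⟨a, rfl⟩ := Submodule.mem_span_singleton.1 hy
    obtain ⟨b, rfl⟩ := Submodule.mem_span_singleton.1 hw
    rw [F.B_smul_left, F.B_smul_right, hx1, mul_zero, mul_zero])
  have h6 : x ∈ (K ∙ e) := h5 ▸ Submodule.mem_span_singleton_self x
  obtain ⟨a, rfl⟩ := Submodule.mem_span_singleton.1 h6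
  rw [F.B_smul_left, hef, mul_one] at hx2
  apply hx0'
  rw [hx2, zero_smul]

/-- **the full torus**: `e ↦ t e`, `f ↦ σ(t)⁻¹ f`, determinant one -/
theorem exists_tor [FiniteDimensional K V] (h3 : finrank K V = 3) (hε : F.ε = 1) (hQ : ∀ v, F.Q v = F.B v v)
    {e f : V} (he : F.Sing e) (hf : F.Sing f) (hef : F.B e f = 1) (t : Kˣ) :
    ∃ g : F.iso, (g : V ≃ₗ[K] V) e = (t : K) • e ∧ (g : V ≃ₗ[K] V) f = (F.σ t)⁻¹ • f ∧
      LinearMap.det ((g : V ≃ₗ[K] V) : V →ₗ[K] V) = 1 := by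
  have hσ0 : F.σ t ≠ 0 := (map_ne_zero F.σ).2 t.ne_zero
  obtain ⟨w, hw, hwe, hwf⟩ := exists_aniso F h3 hQ he hef
  have hs0 : F.σ t * (t : K)⁻¹ ≠ 0 := mul_ne_zero hσ0 (inv_ne_zero t.ne_zero)
  obtain ⟨r, hr, hr'⟩ := exists_qref F hε hQ hw (s := Units.mk0 _ hs0) (by
    rw [Units.val_mk0, map_mul, F.σσ, map_inv₀]
    field_simp)
  obtain ⟨d, hd, hd'⟩ := exists_dil F he hf hef t
  have hfe : F.B f e = 1 := by rw [F.B_symm, hef, map_one, mul_one, hε]
  refine ⟨d * r, ?_, ?_, ?_⟩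
  · change (d : V ≃ₗ[K] V) ((r : V ≃ₗ[K] V) e) = _
    rw [hr, F.B_eq_zero hwe, mul_zero, zero_smul, add_zero, hd, hef, he.2]
    module
  · change (d : V ≃ₗ[K] V) ((r : V ≃ₗ[K] V) f) = _
    rw [hr, F.B_eq_zero hwf, mul_zero, zero_smul, add_zero, hd, hf.2, hfe, hε, inv_one]
    module
  · change LinearMap.det (((d : V ≃ₗ[K] V) : V →ₗ[K] V) ∘ₗ ((r : V ≃ₗ[K] V) : V →ₗ[K] V)) = 1
    rw [LinearMap.det_comp, hd', hr', Units.val_mk0]
    field_simp

/-- **irreducibility in dimension three** -/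
theorem isIrr_three [Finite K] [FiniteDimensional K V] [Finite V] [Fintype F.iso] (h3 : finrank K V = 3)
    (hε : F.ε = 1) (hQ : ∀ v, F.Q v = F.B v v)
    (hdet : ∀ g : F.iso, ∃ a : Kˣ, LinearMap.det ((g : V ≃ₗ[K] V) : V →ₗ[K] V) = a * (F.σ a)⁻¹)
    [Fintype (F.Om 1)] {c : GL (Fin 1) K → ℂ} (hc : IsIrrCharacter _ c) (hc1 : c 1 = 1) {W₀ : Submodule K V}
    (hW₀ : W₀ ∈ F.Om 1) {t t' : Kˣ} (ht : (t' : K) = (F.σ t)⁻¹)
    (ht1 : c (Matrix.GeneralLinearGroup.scalar (Fin 1) t) ≠ c (Matrix.GeneralLinearGroup.scalar (Fin 1) t')) :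
    IsIrrCharacter (sg F) (fun g : sg F => hcf F c g) := by
  classical
  have hcl := Core.isIrr_isClassFunction hc
  have hcc := Core.isIrr_isCharacter hc
  let b₀ : Basis (Fin 1) K W₀ := finBasisOfFinrankEq K W₀ hW₀.2
  have hlin : ∀ (L : Subgroup F.iso) (f : L →* GL (Fin 1) K), IsIrrCharacter L (c ∘ f) := fun L f =>
    isIrr_of_one (Core.isCharacter_comp f hcc) (by rw [Function.comp_apply, map_one, hc1])
  -- the matrix of a scalar
  have hsc : ∀ (W : Submodule K V) (b : Basis (Fin 1) K W) (e : W ≃ₗ[K] W) (z : Kˣ),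
      e (b 0) = (z : K) • b 0 → glE b e = Matrix.GeneralLinearGroup.scalar (Fin 1) z := by
    intro W b e z hz
    ext i j
    have hi : i = 0 := Subsingleton.elim _ _
    have hj : j = 0 := Subsingleton.elim _ _
    subst hi
    subst hj
    rw [coe_glE, LinearMap.toMatrix_apply, LinearEquiv.coe_coe, hz, map_smul, Basis.repr_self,
      Matrix.GeneralLinearGroup.coe_scalar]
    simp
  refine isIrr_N F (sg F) hc hW₀ (trans_sg F hdet one_pos hW₀) ?_ fun W' hW' hne => ?_
  · have h1 := hlin _ ((glE b₀).toMonoidHom.comp ((resHom F.iso.subtype W₀).comp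
      (Subgroup.inclusion (inf_le_right : sg F ⊓ stabW F.iso.subtype W₀ ≤ _))))
    convert h1 using 1
    ext g
    rw [flagTerm_of F.iso.subtype c g.2.2, cl_eq hcl b₀]
    rfl
  · -- the element of the torus
    have h0 := opp_of_ne F h3.le hW₀ hW' (Ne.symm hne)
    obtain ⟨b, b', hb⟩ := CForm.exists_dual_basis hW₀.2 hW'.2 h0
    have hbb : F.B (b 0) (b' 0) = 1 := by rw [hb, if_pos rfl]
    obtain ⟨g, hg, hg', hgd⟩ := exists_tor F h3 hε hQ (hW₀.1.sing (b 0).2) (hW'.1.sing (b' 0).2) hbb t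
    have hspan : ∀ (W : Submodule K V) (b : Basis (Fin 1) K W) (z : K), (g : V ≃ₗ[K] V) (b 0 : V) = z • (b 0 : V) →
        W.map (F.iso.subtype g : V →ₗ[K] V) = W := by
      intro W b z hz
      refine map_eq_of_le F.iso.subtype fun w hw => ?_
      change (g : V ≃ₗ[K] V) w ∈ W
      have h1 := b.sum_repr ⟨w, hw⟩
      rw [Fin.sum_univ_one] at h1
      have h2 : w = b.repr ⟨w, hw⟩ 0 • (b 0 : V) := (congrArg Subtype.val h1).symm
      rw [h2, map_smul, hz]
      exact W.smul_mem _ (W.smul_mem _ (b 0).2)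
    have hm := hspan W₀ b _ hg
    have hm' := hspan W' b' _ hg'
    refine van2_of_ne F (L := sg F ⊓ (stabW F.iso.subtype W₀ ⊓ stabW F.iso.subtype W')) hcl hcl inf_le_left
      (inf_le_right.trans inf_le_left) (inf_le_right.trans inf_le_right) b b' (hlin _ _) (hlin _ _) fun h => ?_
    have h4 : c (glE b (res (F.iso.subtype g) W₀ hm)) = c (glE b' (res (F.iso.subtype g) W' hm')) :=
      congrFun h ⟨g, (mem_sg F).2 hgd, hm, hm'⟩
    rw [hsc W₀ b _ t (Subtype.ext hg), hsc W' b' _ t' (Subtype.ext (by rw [ht]; exact hg'))] at h4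
    exact ht1 h4

/-- **the number of singular points is `1` modulo `p`** -/
theorem card_mod [Finite K] [FiniteDimensional K V] [Finite V] {p : ℕ} [Fact p.Prime] [CharP K p]
    (h3 : finrank K V = 3) (hε : F.ε = 1) (hQ : ∀ v, F.Q v = F.B v v) (hσ : ∃ x, F.σ x ≠ x)
    {W₀ : Submodule K V} (hW₀ : W₀ ∈ F.Om 1) : ¬ p ∣ Nat.card (F.Om 1) := by
  classical
  have hfS : Finite (Submodule K V) := Finite.of_injective (fun W : Submodule K V => (W : Set V)) SetLike.coe_injective
  let _ : Fintype (F.Om 1) := Fintype.ofFinite _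
  have hsym : ∀ u v, F.σ (F.B u v) = F.B v u := fun u v => by
    rw [F.B_symm v u, hε, one_mul]
  obtain ⟨x, hx⟩ := hσ
  obtain ⟨a, ha0, ha⟩ : ∃ a : K, a ≠ 0 ∧ F.σ a = -a :=
    ⟨x - F.σ x, sub_ne_zero.2 (Ne.symm hx), by rw [map_sub, F.σσ]; ring⟩
  let b₀ : Basis (Fin 1) K W₀ := finBasisOfFinrankEq K W₀ hW₀.2
  obtain ⟨e, he⟩ : ∃ e : V, e = b₀ 0 := ⟨_, rfl⟩
  have heW : e ∈ W₀ := he ▸ (b₀ 0).2
  have he0 : e ≠ 0 := by
    rw [he]
    intro h
    exact b₀.ne_zero 0 (Subtype.ext h)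
  have hes := hW₀.1.sing heW
  have hspan : (K ∙ e) = W₀ := by
    apply Submodule.eq_of_le_of_finrank_eq ((Submodule.span_singleton_le_iff_mem _ _).2 heW)
    rw [finrank_span_singleton he0, hW₀.2]
  let T : V →ₗ[K] V := LinearMap.transvection (a • F.lf e) e
  have hT : ∀ v, T v = v + (a * F.B v e) • e := fun v => by
    change LinearMap.transvection (a • F.lf e) e v = _
    rw [LinearMap.transvection.apply]
    rfl
  have hTB : ∀ u v, F.B (T u) (T v) = F.B u v := by
    intro u v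
    rw [hT, hT]
    simp only [F.B_add_left, F.B_add_right, F.B_smul_left, F.B_smul_right, map_mul, ha, hsym, hes.2]
    ring
  obtain ⟨g, hg⟩ := F.exists_iso T hTB fun v => by rw [hQ, hQ, hTB]
  have hgT : ∀ v, (g : V ≃ₗ[K] V) v = v + (a * F.B v e) • e := fun v => by rw [hg, hT]
  have hpow : ∀ (k : ℕ) (v : V), ((g ^ k : F.iso) : V ≃ₗ[K] V) v = v + ((k : K) * (a * F.B v e)) • e := by
    intro k
    induction k with
    | zero =>
      intro v
      rw [Nat.cast_zero, zero_mul, zero_smul, add_zero, pow_zero]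
      rfl
    | succ k ih =>
      intro v
      rw [pow_succ]
      change ((g ^ k : F.iso) : V ≃ₗ[K] V) ((g : V ≃ₗ[K] V) v) = _
      rw [ih, hgT, F.B_add_left, F.B_smul_left, hes.2, mul_zero, add_zero, Nat.cast_succ]
      module
  have hgp : g ^ p = 1 := by
    apply Subtype.ext
    apply LinearEquiv.ext
    intro v
    rw [hpow, CharP.cast_eq_zero, zero_mul, zero_smul, add_zero]
    rfl
  letI := subAct F.iso.subtype (F.Om 1) F.Om_map
  let f : Function.End (F.Om 1) := fun W => g • W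
  have hfpow : ∀ (k : ℕ) (W : F.Om 1), (f ^ k) W = g ^ k • W := by
    intro k
    induction k with
    | zero =>
      intro W
      rw [pow_zero, pow_zero, one_smul]
      rfl
    | succ k ih =>
      intro W
      rw [pow_succ, pow_succ, mul_smul, ← ih]
      rfl
  have hf : f ^ p ^ 1 = 1 := by
    funext W
    rw [hfpow, pow_one, hgp, one_smul]
    rfl
  have h1 := Equiv.Perm.card_fixedPoints_modEq hf
  have hfix : ∀ W : F.Om 1, W ∈ Function.fixedPoints f ↔ W = ⟨W₀, hW₀⟩ := by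
    intro W
    constructor
    · intro h
      have h2 : W.1.map (F.iso.subtype g : V →ₗ[K] V) = W.1 := congrArg Subtype.val (show g • W = W from h)
      by_contra hne
      have hne' : W.1 ≠ W₀ := fun h => hne (Subtype.ext h)
      have hopp := opp_of_ne F h3.le W.2 hW₀ hne'
      let b : Basis (Fin 1) K W.1 := finBasisOfFinrankEq K W.1 W.2.2
      have hb0 : (b 0 : V) ≠ 0 := fun h => b.ne_zero 0 (Subtype.ext h)
      have h5 : F.B (b 0) e ≠ 0 := by
        intro h5
        have h6 : (b 0 : V) ∈ W.1 ⊓ F.perp W₀ := by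
          refine ⟨(b 0).2, fun w hw => ?_⟩
          rw [← hspan] at hw
          obtain ⟨z, rfl⟩ := Submodule.mem_span_singleton.1 hw
          rw [F.B_smul_right, h5, mul_zero]
        rw [hopp] at h6
        exact hb0 ((Submodule.mem_bot K).1 h6)
      have h6 : (g : V ≃ₗ[K] V) (b 0) ∈ W.1 := h2.le ⟨_, (b 0).2, rfl⟩
      rw [hgT] at h6
      have h7 : (a * F.B (b 0) e) • e ∈ W.1 := by
        have := W.1.sub_mem h6 (b 0).2
        rwa [add_sub_cancel_left] at this
      have h8 : e ∈ W.1 := (W.1.smul_mem_iff (mul_ne_zero ha0 h5)).1 h7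
      apply hne'
      rw [← hspan]
      symm
      apply Submodule.eq_of_le_of_finrank_eq ((Submodule.span_singleton_le_iff_mem _ _).2 h8)
      rw [finrank_span_singleton he0, W.2.2]
    · rintro rfl
      change g • (⟨W₀, hW₀⟩ : F.Om 1) = _
      apply Subtype.ext
      change W₀.map (F.iso.subtype g : V →ₗ[K] V) = W₀
      refine map_eq_of_le F.iso.subtype fun w hw => ?_
      change (g : V ≃ₗ[K] V) w ∈ W₀
      rw [hgT, hW₀.1.2 w hw e heW, mul_zero, zero_smul, add_zero]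
      exact hw
  have h2 : Fintype.card (Function.fixedPoints f) = 1 := by
    rw [Fintype.card_eq_one_iff]
    refine ⟨⟨⟨W₀, hW₀⟩, (hfix _).2 rfl⟩, fun y => Subtype.ext ((hfix _).1 y.2)⟩
  rw [h2, ← Nat.card_eq_fintype_card] at h1
  intro h
  have h3 : p ∣ 1 := (Nat.ModEq.dvd_iff h1 dvd_rfl).1 h
  exact (Fact.out : p.Prime).one_lt.ne' (Nat.dvd_one.1 h3)

end Cfsg.Agent.H476.OC
end

-- part: H476/OC/Psu3
section
/-!
# S4891, defining characteristic: the row of `PSU_3` (helper476)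

`ocRow_psu3` : `OCRow p (PSU 3 K q)`, `|K| = q²`, `p` odd.
-/

set_option autoImplicit false
set_option linter.style.haveILetI false

open scoped ComplexConjugate
open Cfsg

namespace Cfsg.Agent.H476.OC

open Cfsg.Agent.OddOrderCharacters.Clifford Cfsg.Agent.Characters MulAction Module Cfsg.Agent.H53.HC
  Cfsg.Agent.H477.HC Cfsg.Agent.H477.HC.CForm Cfsg.Agent.H328.Gow Cfsg.Agent.H576.Ext Cfsg.Agent.H464.ExtR3
  Cfsg.Agent.H993.OC Cfsg.Agent.H145.BR

universe u v w

/-- descent along a surjective homomorphism -/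
theorem exists_desc {N : Type u} {S : Type v} [Group N] [Finite N] [Group S] (f : N →* S)
    (hf : Function.Surjective f) {θ : N → ℂ} (hθ : IsIrrCharacter N θ) (hz : ∀ z, f z = 1 → θ z = θ 1) :
    ∃ η : S → ℂ, IsIrrCharacter S η ∧ ∀ n, η (f n) = θ n := by
  obtain ⟨η, hη, hη'⟩ := exists_quot f.ker hθ fun z hz' => hz z hz'
  let e := QuotientGroup.quotientKerEquivOfSurjective f hf
  refine ⟨fun s => η (e.symm s), Core.isIrr_comp e.symm.toMonoidHom e.symm.surjective hη, fun n => ?_⟩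
  have h1 : e.symm (f n) = (n : N ⧸ f.ker) := by
    rw [MulEquiv.symm_apply_eq]
    rfl
  change η (e.symm (f n)) = _
  rw [h1, hη']

section iter

variable {K : Type u} [Field K] {V : Type v} [AddCommGroup V] [Module K V] {F : CForm K V} {N : Subgroup F.iso}
  {S : Type w} [Group S]

/-- powers of automorphisms induced by semisimilarities -/
theorem exists_iter {D : SemiQ F N S} {s : Semi F} {α : MulAut S} (h : D.Ind s α) (m : ℕ) :
    ∃ s' : Semi F, D.Ind s' (α ^ m) ∧ ∀ x, s'.τ x = s.τ^[m] x := by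
  induction m with
  | zero =>
    refine ⟨isoS 1, ?_, fun x => rfl⟩
    have := ind_iso D 1
    rwa [map_one, map_one] at this
  | succ m ih =>
    obtain ⟨s', h1, h2⟩ := ih
    refine ⟨compS s' s, ?_, fun x => ?_⟩
    · rw [pow_succ]
      exact ind_comp h1 h
    · rw [Function.iterate_succ_apply, ← h2]
      rfl

/-- a function on `S` fixed by a power prime to `p` of an automorphism of `p`-power order -/
theorem fix_of_pow {p m : ℕ} [Fact p.Prime] (hm : ¬ p ∣ m) {α : MulAut S} {j : ℕ} (hα : α ^ p ^ j = 1) {θ : S → ℂ}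
    (h : ∀ x, θ ((α ^ m) x) = θ x) (x : S) : θ (α x) = θ x := by
  have hcop : Nat.Coprime (orderOf α) m := by
    have h1 : orderOf α ∣ p ^ j := orderOf_dvd_of_pow_eq_one hα
    refine Nat.Coprime.coprime_dvd_left h1 (Nat.Coprime.pow_left j ?_)
    exact (Nat.Prime.coprime_iff_not_dvd Fact.out).2 hm
  obtain ⟨k, hk⟩ := exists_pow_eq_self_of_coprime hcop.symm
  have h2 : ∀ (k : ℕ) (x : S), θ (((α ^ m) ^ k) x) = θ x := by
    intro k
    induction k with
    | zero => intro x; rfl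
    | succ k ih =>
      intro x
      rw [pow_succ, MulAut.mul_apply, ih, h]
  have h3 := h2 k x
  rwa [hk] at h3

end iter

/-- **the row of `PSU_3`** -/
theorem ocRow_psu3 {K : Type u} [Field K] [Fintype K] {p q : ℕ} [Fact p.Prime] [CharP K p] (hp2 : p ≠ 2)
    (hF : Fintype.card K = q ^ 2) : OCRow p (PSU 3 K q) := by
  classical
  have hq : Nat.card K = q ^ 2 := by rw [Nat.card_eq_fintype_card, hF]
  obtain ⟨lam, n, m, hn0, hpn, hpm, hn, ⟨t, ht⟩, h3, hi⟩ := exists_lam K hp2 hq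
  -- the field
  obtain ⟨f, hf⟩ : ∃ s, Nat.card K = p ^ s := by
    obtain ⟨n, -, h⟩ := FiniteField.card K p
    exact ⟨n, by rw [Nat.card_eq_fintype_card, h]⟩
  have hq2 : q ≠ 2 := by
    rintro rfl
    apply hp2
    have h1 : 2 ∣ p ^ f := by rw [← hf, hq]; exact ⟨2, rfl⟩
    exact ((Nat.prime_dvd_prime_iff_eq Nat.prime_two Fact.out).1 (Nat.prime_two.dvd_of_dvd_pow h1)).symm
  have hfr : finrank K (Fin 3 → K) = 3 := finrank_fin_fun K
  have hfi := finite_iso (hermF K hq 3)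
  let _ : Fintype (hermF K hq 3).iso := Fintype.ofFinite _
  have hfO : Finite ((hermF K hq 3).Om 1) := by
    have : Finite (Submodule K (Fin 3 → K)) :=
      Finite.of_injective (fun W : Submodule K (Fin 3 → K) => (W : Set (Fin 3 → K))) SetLike.coe_injective
    infer_instance
  let _ : Fintype ((hermF K hq 3).Om 1) := Fintype.ofFinite _
  obtain ⟨W₀, hW₀⟩ : ∃ W₀, W₀ ∈ (hermF K hq 3).Om 1 := (hermF_frame (p := p) hq 1 1).1
  -- the character
  let c : GL (Fin 1) K → ℂ := fun A => ((lam.comp Matrix.GeneralLinearGroup.det) A : ℂ)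
  have hcdef : ∀ A, c A = (lam (Matrix.GeneralLinearGroup.det A) : ℂ) := fun A => rfl
  have hc : IsIrrCharacter _ c := Linear.isIrrCharacter_hom (lam.comp Matrix.GeneralLinearGroup.det)
  have hcl := Core.isIrr_isClassFunction hc
  have hc1 : c 1 = 1 := by rw [hcdef, map_one, map_one, Units.val_one]
  have hsc : ∀ z : Kˣ, c (Matrix.GeneralLinearGroup.scalar (Fin 1) z) = (lam z : ℂ) := fun z => by
    rw [hcdef, Matrix.GeneralLinearGroup.det_scalar, Fintype.card_fin, pow_one]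
  have hirr : IsIrrCharacter (sg (hermF K hq 3)) (fun g : sg (hermF K hq 3) => hcf (hermF K hq 3) c g) := by
    refine isIrr_three (hermF K hq 3) hfr rfl (fun v => rfl) (hdet_herm hF hq 3) hc hc1 hW₀ (t := t) (t' := (t ^ q)⁻¹)
      ?_ ?_
    · rw [Units.val_inv_eq_inv_val, Units.val_pow_eq_pow_val]
      rfl
    · rw [hsc, hsc]
      intro h
      apply ht
      have h1 : lam t = lam (t ^ q)⁻¹ := Units.ext h
      rw [map_inv, map_pow] at h1
      rw [pow_succ']
      exact eq_inv_iff_mul_eq_one.1 h1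
  have hNs : sg (hermF K hq 3) = suN hq 3 := by
    ext g
    rw [mem_sg, mem_suN]
  rw [hNs] at hirr
  obtain ⟨D, hD⟩ := semiQ_psu (n := 3) hF hq le_rfl (fun h => hq2 h.2)
  have hone : hcf (hermF K hq 3) c 1 = (Nat.card ((hermF K hq 3).Om 1) : ℂ) := by
    rw [hcf_one _ hcl, hc1, mul_one]
  -- descent
  obtain ⟨θ, hθ, hθ'⟩ := exists_desc D.q D.surj hirr (fun z hz => by
    obtain ⟨a, ha⟩ := (D.ker z).1 hz
    obtain ⟨W', hW', h0⟩ := (hermF K hq 3).exists_opp hW₀
    obtain ⟨b, b', hb⟩ := CForm.exists_dual_basis hW₀.2 hW'.2 h0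
    have hbb : (hermF K hq 3).B (b 0) (b' 0) = 1 := by rw [hb, if_pos rfl]
    have h1 := (hermF K hq 3).iso_B (z : (hermF K hq 3).iso) (b 0) (b' 0)
    rw [ha, ha, (hermF K hq 3).B_smul_left, (hermF K hq 3).B_smul_right, hbb, mul_one] at h1
    have h2 : a * a ^ q = 1 := h1
    have ha0 : a ≠ 0 := left_ne_zero_of_mul_eq_one h2
    have hdet : a ^ 3 = 1 := by
      have h4 := mem_suN.1 z.2
      have h5 : (((z : (hermF K hq 3).iso) : (Fin 3 → K) ≃ₗ[K] (Fin 3 → K)) : (Fin 3 → K) →ₗ[K] (Fin 3 → K)) =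
          a • LinearMap.id := by
        apply LinearMap.ext
        intro v
        exact ha v
      rw [h5, LinearMap.det_smul, hfr, LinearMap.det_id, mul_one] at h4
      exact h4
    have h6 : lam (Units.mk0 a ha0) = 1 := by
      refine h3 _ (Units.ext hdet) (Units.ext ?_)
      rw [Units.val_pow_eq_pow_val, Units.val_mk0, pow_succ', h2, Units.val_one]
    exact (hermF K hq 3).hc_scalar hcl (fun _ _ => 1) (a := Units.mk0 a ha0) ha (by rw [hsc, h6, hc1]; rfl)
      (fun _ _ => rfl))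
  have hθ1 : θ 1 = (Nat.card ((hermF K hq 3).Om 1) : ℂ) := by
    rw [← map_one D.q, hθ', ← hone]
    rfl
  have hqodd : ∃ x, (hermF K hq 3).σ x ≠ x := by
    by_contra hno
    push Not at hno
    have hq2' := two_le_of_card hq
    obtain ⟨y, hy⟩ := IsCyclic.exists_generator (α := Kˣ)
    have h1 : orderOf y = q ^ 2 - 1 := by
      rw [orderOf_eq_card_of_forall_mem_zpowers hy, Nat.card_units, hq]
    have h2 : y ^ q = y := Units.ext (hno y)
    have h4 : y ^ (q - 1) = 1 := by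
      have h5 : y ^ (q - 1) * y = 1 * y := by
        rw [← pow_succ, Nat.sub_add_cancel (by omega), h2, one_mul]
      exact mul_right_cancel h5
    have h5 := Nat.le_of_dvd (by omega) (orderOf_dvd_of_pow_eq_one h4)
    rw [h1] at h5
    have h6 : q * 2 ≤ q ^ 2 := by rw [pow_two]; exact Nat.mul_le_mul_left q hq2'
    omega
  have hpOm : ¬ p ∣ Nat.card ((hermF K hq 3).Om 1) :=
    card_mod (hermF K hq 3) hfr rfl (fun v => rfl) hqodd hW₀
  intro A hA
  refine ⟨θ, hθ, ?_, ⟨_, hθ1, hpOm⟩, ⟨n, hpn, fun g => ?_⟩, fun α hα x => ?_⟩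
  · rintro rfl
    rw [Pi.one_apply] at hθ1
    exact card_Om_ne_one _ one_pos hW₀ (by exact_mod_cast hθ1.symm)
  · obtain ⟨g, rfl⟩ := D.surj g
    rw [hθ', hcf_apply]
    refine sum_mem fun W _ => ?_
    have hprim := Complex.isPrimitiveRoot_exp n hn0
    have hNZ : NeZero n := ⟨hn0⟩
    by_cases h : W.1.map ((hermF K hq 3).iso.subtype g : (Fin 3 → K) →ₗ[K] (Fin 3 → K)) = W.1
    · rw [flagTerm_of _ c h, cl_eq hcl (finBasisOfFinrankEq K W.1 W.2.2), hcdef]
      have h1 : ((lam (Matrix.GeneralLinearGroup.det (glE (finBasisOfFinrankEq K W.1 W.2.2)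
          (res ((hermF K hq 3).iso.subtype g) W.1 h))) : ℂˣ) : ℂ) ^ n = 1 := by
        rw [← Units.val_pow_eq_pow_val, hn, Units.val_one]
      obtain ⟨i, -, hi⟩ := hprim.eq_pow_of_pow_eq_one h1
      rw [← hi]
      exact pow_mem (IntermediateField.mem_adjoin_simple_self ℚ _) i
    · rw [flagTerm_not _ c h]
      exact zero_mem _
  · obtain ⟨j, hj⟩ := hA ⟨α, hα⟩
    refine fix_of_pow hpm (congrArg Subtype.val hj) (fun x => ?_) x
    obtain ⟨s, hs⟩ := hD α
    obtain ⟨s', hs', hτ⟩ := exists_iter hs m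
    obtain ⟨g, rfl⟩ := D.surj x
    obtain ⟨g', hg'⟩ := D.inv s' g
    rw [hs' g g' hg', hθ', hθ']
    have hlam : s'.lam ≠ 0 := s'.hlam
    have h1 := hc_semi (hermF K hq 3) hcl s'.τ s'.γ s'.smul (fun v w => by
      rw [s'.hB, mul_eq_zero, or_iff_right hlam, map_eq_zero_iff _ s'.τ.injective]) (fun v => by
      rw [s'.hQ, mul_eq_zero, or_iff_right hlam, map_eq_zero_iff _ s'.τ.injective]) (g : (hermF K hq 3).iso)
      (g' : (hermF K hq 3).iso) hg'
    refine h1.trans ?_
    have h2 : fmap (s'.τ : K →+* K) c = c := by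
      obtain ⟨i, -, hi'⟩ := H161.PalForm.frob Fact.out hf (s.τ : K →+* K)
      have h4 : ∀ (l : ℕ) (x : K), s.τ^[l] x = x ^ p ^ (i * l) := by
        intro l
        induction l with
        | zero => intro x; rw [mul_zero, pow_zero, pow_one]; rfl
        | succ l ih =>
          intro x
          rw [Function.iterate_succ_apply, ih]
          have h5 : s.τ x = x ^ p ^ i := hi' x
          rw [h5, ← pow_mul, ← pow_add]
          congr 2
          ring
      funext A
      change c (Matrix.GeneralLinearGroup.map (s'.τ : K →+* K) A) = c A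
      rw [hcdef, hcdef]
      have h5 : Matrix.GeneralLinearGroup.det (Matrix.GeneralLinearGroup.map (s'.τ : K →+* K) A) =
          (Matrix.GeneralLinearGroup.det A) ^ p ^ (i * m) := by
        rw [Matrix.GeneralLinearGroup.map_det]
        apply Units.ext
        rw [Units.val_pow_eq_pow_val, ← h4 m, ← hτ]
        rfl
      rw [h5, hi]
    rw [h2]
    rfl

end Cfsg.Agent.H476.OC
end
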